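import Mathlib
import Groth.Agent.Lib.ProjGlue.MapLocal

/-!
# `Proj S → Proj (S♮ ⊗ S₀)` for the natural graded ring of a positively graded ring
-/

set_option autoImplicit false
universe u

open Polynomial AlgebraicGeometry CategoryTheory
open scoped HomogeneousIdeal

noncomputable section

namespace Groth.Agent.H95.ProjNat

variable {R A B C : Type u} [CommRing R] [CommRing A] [Algebra R A]
  {𝒜 : ℕ → Submodule R A} [GradedAlgebra 𝒜] [CommRing B] [Algebra R B] {ℬ : ℕ → Submodule R B}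
  [GradedAlgebra ℬ] [CommRing C] [Algebra R C] {𝒞 : ℕ → Submodule R C} [GradedAlgebra 𝒞]

variable (𝒜) in
/-- The elements of degree at least `n`. -/
def filt (n : ℕ) : Submodule R A := ⨆ (m : ℕ) (_ : n ≤ m), 𝒜 m

theorem mem_filt_of_mem {n m : ℕ} (h : n ≤ m) {x : A} (hx : x ∈ 𝒜 m) : x ∈ filt 𝒜 n :=
  Submodule.mem_iSup_of_mem m (Submodule.mem_iSup_of_mem h hx)

theorem proj_eq_zero {n m : ℕ} (h : m < n) {x : A} (hx : x ∈ filt 𝒜 n) :
    GradedRing.proj 𝒜 m x = 0 := by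
  rw [GradedRing.proj_apply]
  induction hx using Submodule.iSup_induction' with
  | mem i y hy =>
    by_cases hi : n ≤ i
    · rw [iSup_pos hi] at hy
      exact DirectSum.decompose_of_mem_ne 𝒜 hy (by omega)
    · rw [iSup_neg hi, Submodule.mem_bot] at hy
      simp [hy]
  | zero => simp
  | add y z _ _ hy hz => simp [DirectSum.decompose_add, hy, hz]

theorem mem_filt_iff {n : ℕ} {x : A} : x ∈ filt 𝒜 n ↔ ∀ m < n, GradedRing.proj 𝒜 m x = 0 := by
  classical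
  refine ⟨fun hx m hm => proj_eq_zero hm hx, fun h => ?_⟩
  rw [← DirectSum.sum_support_decompose 𝒜 x]
  refine Submodule.sum_mem _ fun i _ => ?_
  by_cases hi : n ≤ i
  · exact mem_filt_of_mem hi (SetLike.coe_mem _)
  · have := h i (by omega)
    rw [GradedRing.proj_apply] at this
    rw [this]
    exact zero_mem _

theorem mul_mem_filt {p q : ℕ} {x y : A} (hx : x ∈ filt 𝒜 p) (hy : y ∈ filt 𝒜 q) :
    x * y ∈ filt 𝒜 (p + q) := by
  classical
  rw [← DirectSum.sum_support_decompose 𝒜 x, ← DirectSum.sum_support_decompose 𝒜 y, Finset.sum_mul_sum]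
  refine Submodule.sum_mem _ fun i _ => Submodule.sum_mem _ fun j _ => ?_
  by_cases hi : p ≤ i
  · by_cases hj : q ≤ j
    · exact mem_filt_of_mem (add_le_add hi hj) (SetLike.mul_mem_graded (SetLike.coe_mem _) (SetLike.coe_mem _))
    · have := proj_eq_zero (m := j) (by omega) hy
      rw [GradedRing.proj_apply] at this
      simp [this]
  · have := proj_eq_zero (m := i) (by omega) hx
    rw [GradedRing.proj_apply] at this
    simp [this]

theorem pow_mem_filt {p : ℕ} {x : A} (hx : x ∈ filt 𝒜 p) : ∀ k : ℕ, x ^ k ∈ filt 𝒜 (p * k)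
  | 0 => by
    rw [pow_zero]
    exact mem_filt_of_mem (by simp) (SetLike.one_mem_graded 𝒜)
  | k + 1 => by
    rw [pow_succ, Nat.mul_succ]
    exact mul_mem_filt (pow_mem_filt hx k) hx

variable (φ : B →ₐ[R] Polynomial A) (hφ : Function.Injective φ)
  (hdeg : ∀ n : ℕ, Submodule.map φ.toLinearMap (ℬ n) =
    Submodule.map ((Polynomial.monomial n : A →ₗ[A] Polynomial A).restrictScalars R)
      (⨆ (m : ℕ) (_ : n ≤ m), 𝒜 m))
  (π : ℬ →+*ᵍ 𝒞) (hπ : Function.Surjective π)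
  (hker : RingHom.ker π.toRingHom =
    Ideal.span (⇑φ ⁻¹' (⇑(Polynomial.C : A →+* Polynomial A) ''
      ((HomogeneousIdeal.irrelevant 𝒜).toIdeal : Set A))))
  (ρ : 𝒞 →+*ᵍ 𝒜) (hρ : ∀ (n : ℕ) (b : B), b ∈ ℬ n → ρ (π b) = GradedRing.proj 𝒜 n ((φ b).coeff n))

section

include hdeg

theorem exists_mem_eq {n : ℕ} {a : A} (ha : a ∈ filt 𝒜 n) : ∃ b ∈ ℬ n, φ b = monomial n a := by
  have hx : monomial n a ∈ Submodule.map φ.toLinearMap (ℬ n) := by
    rw [hdeg]; exact ⟨a, ha, rfl⟩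
  obtain ⟨b, hb, e⟩ := hx
  exact ⟨b, hb, e⟩

theorem eq_monomial {n : ℕ} {b : B} (hb : b ∈ ℬ n) :
    (φ b).coeff n ∈ filt 𝒜 n ∧ φ b = monomial n ((φ b).coeff n) := by
  have hx : φ b ∈ Submodule.map φ.toLinearMap (ℬ n) := ⟨b, hb, rfl⟩
  rw [hdeg] at hx
  obtain ⟨a, ha, e⟩ := hx
  have e' : monomial n a = φ b := e
  rw [← e']
  simp [coeff_monomial]
  exact ha

end

include hπ in
theorem exists_lift {n : ℕ} {c : C} (hc : c ∈ 𝒞 n) : ∃ b ∈ ℬ n, π b = c := by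
  obtain ⟨b, rfl⟩ := hπ c
  refine ⟨DirectSum.decompose ℬ b n, SetLike.coe_mem _, ?_⟩
  rw [GradedRingHom.map_directSumDecompose ℬ 𝒞 π]
  exact DirectSum.decompose_of_mem_same 𝒞 hc

include hφ hdeg hker in
theorem map_eq_zero_of_filt_mul {n : ℕ} {b : B} (hb : b ∈ ℬ n) {x y : A}
    (hx : x ∈ (HomogeneousIdeal.irrelevant 𝒜).toIdeal) (hy : y ∈ filt 𝒜 n)
    (h : (φ b).coeff n = x * y) : π b = 0 := by
  have hmem : b ∈ RingHom.ker π.toRingHom := by
    rw [hker]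
    have h0 : x ∈ filt 𝒜 0 := mem_filt_iff.2 fun m hm => absurd hm (by omega)
    obtain ⟨u, hu, eu⟩ := exists_mem_eq φ hdeg h0
    obtain ⟨v, hv, ev⟩ := exists_mem_eq φ hdeg hy
    have e : b = u * v := by
      apply hφ
      rw [(eq_monomial φ hdeg hb).2, h, map_mul φ, eu, ev, monomial_mul_monomial, zero_add]
    rw [e]
    exact Ideal.mul_mem_right _ _ (Ideal.subset_span ⟨x, hx, by rw [eu, monomial_zero_left]⟩)
  exact hmem

include hφ hdeg hπ hρ in
theorem surjOn {n : ℕ} {a : A} (ha : a ∈ 𝒜 n) : ∃ c ∈ 𝒞 n, ρ c = a := by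
  obtain ⟨b, hb, e⟩ := exists_mem_eq φ hdeg (mem_filt_of_mem le_rfl ha)
  refine ⟨π b, π.map_mem hb, ?_⟩
  rw [hρ n b hb, e, coeff_monomial, if_pos rfl, GradedRing.proj_apply]
  exact DirectSum.decompose_of_mem_same 𝒜 ha

include hφ hdeg hπ hρ in
theorem surjective : Function.Surjective ρ := by
  classical
  intro a
  rw [← DirectSum.sum_support_decompose 𝒜 a]
  choose f hf hfe using fun i => surjOn φ hφ hdeg π hπ ρ hρ (SetLike.coe_mem (DirectSum.decompose 𝒜 a i))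
  exact ⟨∑ i ∈ (DirectSum.decompose 𝒜 a).support, f i, by simp [map_sum, hfe]⟩

include hdeg hρ in
theorem coeff_mem_succ {n : ℕ} {b : B} (hb : b ∈ ℬ n) (h0 : ρ (π b) = 0) :
    (φ b).coeff n ∈ filt 𝒜 (n + 1) := by
  rw [hρ n b hb] at h0
  refine mem_filt_iff.2 fun m hm => ?_
  rcases Nat.lt_succ_iff_lt_or_eq.1 hm with h | rfl
  · exact proj_eq_zero h (eq_monomial φ hdeg hb).1
  · exact h0

theorem mem_irrelevant_of_filt {n : ℕ} {a : A} (ha : a ∈ filt 𝒜 (n + 1)) :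
    a ∈ (HomogeneousIdeal.irrelevant 𝒜).toIdeal := by
  have := proj_eq_zero (m := 0) (Nat.succ_pos n) ha
  exact (HomogeneousIdeal.mem_irrelevant_iff 𝒜 a).2 this

include hφ hdeg hπ hker hρ in
theorem pow_eq_zero {n : ℕ} {c : C} (hc : c ∈ 𝒞 n) (h0 : ρ c = 0) : c ^ (n + 1) = 0 := by
  obtain ⟨b, hb, rfl⟩ := exists_lift π hπ hc
  have ha := coeff_mem_succ φ hdeg π ρ hρ hb h0
  set a := (φ b).coeff n with ha_def
  rw [← map_pow]
  refine map_eq_zero_of_filt_mul φ hφ hdeg π hker (n := (n + 1) • n) (SetLike.pow_mem_graded _ hb)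
    (mem_irrelevant_of_filt ha) (y := a ^ n) ?_ ?_
  · rw [smul_eq_mul]
    exact pow_mem_filt ha n
  · rw [map_pow, (eq_monomial φ hdeg hb).2, monomial_pow, coeff_monomial,
      if_pos (by rw [smul_eq_mul, mul_comm]), ← pow_succ']

include hφ hdeg hπ hker hρ in
theorem isNilpotent_of_map_eq_zero {c : C} (h0 : ρ c = 0) : IsNilpotent c := by
  classical
  rw [← DirectSum.sum_support_decompose 𝒞 c]
  refine isNilpotent_sum fun i _ => ⟨i + 1, pow_eq_zero φ hφ hdeg π hπ hker ρ hρ (SetLike.coe_mem _) ?_⟩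
  rw [GradedRingHom.map_directSumDecompose 𝒞 𝒜 ρ, h0, DirectSum.decompose_zero]
  rfl

include hφ hdeg hπ hker hρ in
theorem eq_zero_of_gen {n₀ : ℕ} (hgen : ∀ n, n₀ ≤ n → 𝒜 (n + 1) = 𝒜 1 * 𝒜 n) {n : ℕ} (hn : n₀ ≤ n)
    {c : C} (hc : c ∈ 𝒞 n) (h0 : ρ c = 0) : c = 0 := by
  classical
  obtain ⟨b, hb, rfl⟩ := exists_lift π hπ hc
  have ha := coeff_mem_succ φ hdeg π ρ hρ hb h0
  let P : Submodule R A := 𝒜 1 * filt 𝒜 n
  have hP : (φ b).coeff n ∈ P := by
    rw [← DirectSum.sum_support_decompose 𝒜 ((φ b).coeff n)]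
    refine Submodule.sum_mem _ fun i hi => ?_
    by_cases h : n + 1 ≤ i
    · obtain ⟨j, rfl⟩ : ∃ j, i = j + 1 := ⟨i - 1, by omega⟩
      have hm : (DirectSum.decompose 𝒜 ((φ b).coeff n) (j + 1) : A) ∈ 𝒜 1 * 𝒜 j := by
        rw [← hgen j (by omega)]; exact SetLike.coe_mem _
      exact (mul_le_mul_right (show 𝒜 j ≤ filt 𝒜 n from fun x hx => mem_filt_of_mem (by omega) hx) (𝒜 1)) hm
    · have := proj_eq_zero (m := i) (by omega) ha
      rw [GradedRing.proj_apply] at this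
      rw [this]; exact zero_mem _
  suffices h : ∀ a ∈ P, a ∈ filt 𝒜 n ∧ ∀ b ∈ ℬ n, (φ b).coeff n = a → π b = 0 from
    (h _ hP).2 b hb rfl
  intro a ha'
  induction ha' using Submodule.mul_induction_on' with
  | mem_mul_mem x hx y hy =>
    refine ⟨mem_filt_iff.2 fun m hm => proj_eq_zero (n := 1 + n) (by omega)
      (mul_mem_filt (mem_filt_of_mem le_rfl hx) hy), fun b' hb' e => ?_⟩
    exact map_eq_zero_of_filt_mul φ hφ hdeg π hker hb'
      (HomogeneousIdeal.mem_irrelevant_of_mem 𝒜 Nat.one_pos hx) hy e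
  | add x _ y _ hx hy =>
    refine ⟨add_mem hx.1 hy.1, fun b' hb' e => ?_⟩
    obtain ⟨b₁, hb₁, e₁⟩ := exists_mem_eq φ hdeg hx.1
    have h₁ := hx.2 b₁ hb₁ (by simp [e₁])
    have h₂ := hy.2 (b' - b₁) (sub_mem hb' hb₁) (by simp [e₁, e])
    rwa [map_sub, h₁, sub_zero] at h₂

end Groth.Agent.H95.ProjNat
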